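import Groth.Agent.Lib.Restrict.Spaces

/-!
# Spaces over `S` are spaces over `S'` with a map to `S`
-/

set_option autoImplicit false
set_option backward.isDefEq.respectTransparency false
set_option backward.isDefEq.respectTransparency.types false

universe u

open CategoryTheory CategoryTheory.Limits AlgebraicGeometry Opposite

namespace Groth.Agent.Lib.Restrict

open AlgSp (Sp yon Representable RepWith IsAlgSpace)
open Groth.Agent.Lib.AlgSpace

variable {S S' : Scheme.{u}} (g : S ⟶ S')

/-- The final sheaf. -/
noncomputable abbrev pt (S : Scheme.{u}) : Sp S := (yon S).obj (Over.mk (𝟙 S))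

/-- The canonical section of the restriction of `S`. -/
noncomputable def sect : pt S ⟶ (jinv g).obj ((yon S').obj (Over.mk g)) :=
  ObjectProperty.homMk
    { app := fun T => ↾fun _ => ULift.up (str g T.unop)
      naturality := fun T T' h => by
        ext x
        exact congrArg ULift.up (Over.OverMorphism.ext (Over.w h.unop).symm) }

/-- The map to the final sheaf. -/
noncomputable def toPt (F : Sp S) : F ⟶ pt S :=
  ObjectProperty.homMk
    { app := fun T => ↾fun _ => ULift.up (Over.mkIdTerminal.from T.unop)
      naturality := fun T T' h => by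
        ext x
        exact congrArg ULift.up (Over.mkIdTerminal.hom_ext _ _) }

theorem pt_hom_ext {T : Over S} (a b : (yon S).obj T ⟶ pt S) : a = b := by
  obtain ⟨a, rfl⟩ := (yon S).map_surjective a
  obtain ⟨b, rfl⟩ := (yon S).map_surjective b
  exact congrArg _ (Over.mkIdTerminal.hom_ext a b)

theorem adjT_sect {T : Over S} (a : (yon S).obj T ⟶ pt S) :
    adjT (g := g) (a ≫ sect g) = (yon S').map (str g T) := by
  apply (secEquiv _).injective
  refine ((secEquiv (F := (yon S').obj (Over.mk g)) ((Over.map g).obj T)).apply_symm_apply _).trans ?_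
  rw [secEquiv_comp]
  exact congrArg ULift.up (Over.OverMorphism.ext (Category.id_comp T.hom).symm)

variable {g}

/-- The comparison from a section to the extension of its slice. -/
noncomputable def toSlice {T : Over S'} (φ : T ⟶ Over.mk g) : T ⟶ (Over.map g).obj (Over.mk φ.left) :=
  Over.homMk (𝟙 _) (by
    change 𝟙 _ ≫ φ.left ≫ g = T.hom
    rw [Category.id_comp]
    exact Over.w φ)

/-- The inverse comparison. -/
noncomputable def ofSlice {T : Over S'} (φ : T ⟶ Over.mk g) : (Over.map g).obj (Over.mk φ.left) ⟶ T :=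
  Over.homMk (𝟙 _) (by
    change 𝟙 _ ≫ T.hom = φ.left ≫ g
    rw [Category.id_comp]
    exact (Over.w φ).symm)

theorem ofSlice_comp {T : Over S'} (φ : T ⟶ Over.mk g) : ofSlice φ ≫ φ = str g (Over.mk φ.left) :=
  Over.OverMorphism.ext (Category.id_comp _)

theorem toSlice_ofSlice {T : Over S'} (φ : T ⟶ Over.mk g) : toSlice φ ≫ ofSlice φ = 𝟙 T :=
  Over.OverMorphism.ext (Category.id_comp _)

theorem ofSlice_toSlice {T : Over S'} (φ : T ⟶ Over.mk g) : ofSlice φ ≫ toSlice φ = 𝟙 _ :=
  Over.OverMorphism.ext (Category.id_comp _)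

theorem toSlice_str {T : Over S'} (φ : T ⟶ Over.mk g) : toSlice φ ≫ str g (Over.mk φ.left) = φ :=
  Over.OverMorphism.ext (Category.id_comp _)

/-- Points of the extension. -/
theorem comp_ofRestr {F : Sp S} {H : Sp S'} (p : F ⟶ (jinv g).obj H) {T : Over S'} (s : Sec g F T) :
    (secEquiv (F := ext g F) T).symm s ≫ ofRestr p =
      (yon S').map (toSlice s.φ) ≫ adjT ((secEquiv _).symm s.x ≫ p) := by
  apply (secEquiv T).injective
  rw [secEquiv_comp, Equiv.apply_symm_apply, secEquiv_map]
  refine Eq.trans ?_ (congrArg _ ((secEquiv (F := H) ((Over.map g).obj (Over.mk s.φ.left))).apply_symm_apply _)).symm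
  rw [secEquiv_comp, Equiv.apply_symm_apply]
  rfl

theorem isPullback_toSlice {F : Sp S} {T : Over S'} (s : Sec g F T) :
    (secEquiv (F := ext g F) T).symm s ≫ proj g F = (yon S').map s.φ := by
  apply (secEquiv T).injective
  rw [secEquiv_comp, Equiv.apply_symm_apply]
  exact congrArg ULift.up (Category.id_comp _).symm

section

variable {F : Sp S} {H : Sp S'} {π : H ⟶ (yon S').obj (Over.mk g)} {p : F ⟶ (jinv g).obj H} {q : F ⟶ pt S}

theorem ofRestr_π (sq : IsPullback p q ((jinv g).map π) (sect g)) : ofRestr p ≫ π = proj g F := by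
  refine Groth.Agent.Lib.AlgSpace.hom_ext fun T a => ?_
  obtain ⟨s, rfl⟩ := (secEquiv (F := ext g F) T).symm.surjective a
  rw [← Category.assoc, comp_ofRestr, Category.assoc, ← adjT_comp, Category.assoc, sq.w,
    ← Category.assoc _ q (sect g), adjT_sect, isPullback_toSlice, ← Functor.map_comp, toSlice_str]

/-- The extension of the fibre over the canonical section is the space itself. -/
theorem isIso_ofRestr (sq : IsPullback p q ((jinv g).map π) (sect g)) : IsIso (ofRestr p) := by
  refine isIso_of_yon _ fun T => ⟨fun a a' h => ?_, fun b => ?_⟩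
  · obtain ⟨⟨φ, x⟩, rfl⟩ := (secEquiv (F := ext g F) T).symm.surjective a
    obtain ⟨⟨φ', x'⟩, rfl⟩ := (secEquiv (F := ext g F) T).symm.surjective a'
    dsimp only at h
    have hφ := congrArg (· ≫ π) h
    simp only [Category.assoc, ofRestr_π sq] at hφ
    rw [isPullback_toSlice, isPullback_toSlice] at hφ
    obtain rfl : φ = φ' := (yon S').map_injective hφ
    rw [comp_ofRestr, comp_ofRestr] at h
    have h' := congrArg ((yon S').map (ofSlice φ) ≫ ·) h
    simp only [← Category.assoc, ← Functor.map_comp, ofSlice_toSlice] at h'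
    rw [CategoryTheory.Functor.map_id, Category.id_comp, Category.id_comp] at h'
    have e := (secEquiv _).symm.injective (sq.hom_ext (adjT.injective h') (pt_hom_ext _ _))
    exact congrArg _ (congrArg (Sec.mk φ) e)
  · obtain ⟨φ, hφ⟩ := (yon S').map_surjective (b ≫ π)
    let y := sq.lift (adjT.symm ((yon S').map (ofSlice φ) ≫ b)) ((yon S).map (Over.mkIdTerminal.from (Over.mk φ.left)))
      (adjT.injective (by
        rw [adjT_comp, Equiv.apply_symm_apply, adjT_sect, Category.assoc, ← hφ, ← Functor.map_comp, ofSlice_comp]))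
    refine ⟨(secEquiv (F := ext g F) T).symm ⟨φ, secEquiv _ y⟩, ?_⟩
    dsimp only
    rw [comp_ofRestr]
    dsimp only
    rw [Equiv.symm_apply_apply, sq.lift_fst, Equiv.apply_symm_apply, ← Category.assoc, ← Functor.map_comp,
      toSlice_ofSlice, CategoryTheory.Functor.map_id, Category.id_comp]

theorem isAlgSpace_fibre (sq : IsPullback p q ((jinv g).map π) (sect g)) (hH : IsAlgSpace H) : IsAlgSpace F :=
  isAlgSpace_of_isPullback sq (isAlgSpace_jinv (IsAlgSpace.yon_obj _)).diag (isAlgSpace_jinv hH)
    (IsAlgSpace.yon_obj _)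

end

variable (g)

/-- The fibre of the extension is the space. -/
theorem isPullback_unit (G : Sp S) :
    IsPullback (toRestr (𝟙 (ext g G))) (toPt G) ((jinv g).map (proj g G)) (sect g) := by
  refine isPullback_of_yon ?_ (fun T c c' h₁ h₂ => ?_) fun T a b h => ?_
  · ext T x
    rfl
  · have h₁' := congrArg (secEquiv T) h₁
    rw [secEquiv_comp, secEquiv_comp] at h₁'
    apply (secEquiv T).injective
    have h₃ := Sec.congr_ev (F := G) (h₁' : (_ : Sec g G ((Over.map g).obj T)) = _) (V := T) (𝟙 _) (Category.id_comp _)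
    have e : ∀ x : G.obj.obj (op T), (⟨str g T, G.obj.map (Over.homMk (𝟙 _) (Category.id_comp _) : Over.mk T.hom ⟶ T).op x⟩ :
        Sec g G ((Over.map g).obj T)).ev (V := T) (𝟙 _) (Category.id_comp _) = x := fun x => by
      change (G.obj.map _ ≫ G.obj.map _) x = x
      rw [← Functor.map_comp]
      refine (congrArg (fun f => G.obj.map f x) (show _ = 𝟙 _ from
        Quiver.Hom.unop_inj (Over.OverMorphism.ext (Category.id_comp _)))).trans ?_
      rw [CategoryTheory.Functor.map_id]
      rfl
    exact (e _).symm.trans (h₃.trans (e _))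
  · let s : Sec g G ((Over.map g).obj T) := secEquiv T a
    have h' := congrArg (secEquiv T) h
    rw [secEquiv_comp, secEquiv_comp] at h'
    have hs : s.φ = str g T := congrArg ULift.down h'
    refine ⟨(secEquiv T).symm (s.ev (V := T) (𝟙 _) (by rw [hs]; exact Category.id_comp _)), ?_, pt_hom_ext _ _⟩
    apply (secEquiv T).injective
    rw [secEquiv_comp, Equiv.apply_symm_apply]
    refine Sec.ext' (F := G) (t := s) hs.symm fun V c w => ?_
    change (G.obj.map _ ≫ G.obj.map _ ≫ G.obj.map _) s.x = G.obj.map _ s.x
    rw [← Functor.map_comp, ← Functor.map_comp]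
    exact congrArg (fun f => G.obj.map f s.x)
      (Quiver.Hom.unop_inj (Over.OverMorphism.ext (by simp)))

variable {g}

/-- The fibre of `h_S × F'` is the restriction of `F'`. -/
theorem isIso_prod_fibre (F' : Sp S') :
    IsIso (pullback.fst ((jinv g).map (prod.fst : (yon S').obj (Over.mk g) ⨯ F' ⟶ _)) (sect g) ≫
      (jinv g).map prod.snd) := by
  refine isIso_of_yon _ fun T => ⟨fun a a' h => ?_, fun b => ?_⟩
  · have h' := congrArg adjT h
    simp only [← Category.assoc] at h'
    rw [adjT_comp, adjT_comp] at h'
    refine pullback.hom_ext (adjT.injective (Limits.prod.hom_ext ?_ h')) (pt_hom_ext _ _)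
    simp only [← adjT_comp, Category.assoc, pullback.condition]
    rw [← Category.assoc, ← Category.assoc, adjT_sect, adjT_sect]
  · let c := adjT.symm (prod.lift ((yon S').map (str g T)) (adjT b))
    refine ⟨pullback.lift c ((yon S).map (Over.mkIdTerminal.from T)) (adjT.injective ?_), adjT.injective ?_⟩
    · rw [adjT_comp, Equiv.apply_symm_apply, prod.lift_fst, adjT_sect]
    · dsimp only
      rw [← Category.assoc, pullback.lift_fst, adjT_comp, Equiv.apply_symm_apply, prod.lift_snd]

variable (g)

/-- The functor to spaces over `S'` with a map to `S`. -/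
noncomputable def toOverSpace : AlgSp.Space S ⥤ Over ((AlgSp.ofScheme S').obj (Over.mk g)) where
  obj F := Over.mk (Y := (⟨ext g F.obj, isAlgSpace_ext F.property⟩ : AlgSp.Space S'))
    (ObjectProperty.homMk (proj g F.obj))
  map {F F'} β := Over.homMk (ObjectProperty.homMk (extMap β.hom))
    (InducedCategory.hom_ext (Groth.Agent.Lib.AlgSpace.hom_ext fun T a => rfl))
  map_id F := rfl
  map_comp β β' := rfl

instance toOverSpace_faithful : (toOverSpace g).Faithful where
  map_injective {F F'} β β' h := InducedCategory.hom_ext (by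
    have h' : extMap (g := g) β.hom = extMap β'.hom := congrArg (fun m => m.left.hom) h
    refine (isPullback_unit g F'.obj).hom_ext ?_ (Groth.Agent.Lib.AlgSpace.hom_ext fun T a => pt_hom_ext _ _)
    have e : ∀ γ : F.obj ⟶ F'.obj, γ ≫ toRestr (𝟙 (ext g F'.obj)) = toRestr (extMap γ) := fun γ => by
      ext T x
      exact congrArg (Sec.mk _) (congr($(γ.hom.naturality _) x)).symm
    rw [e, e, h'])

instance toOverSpace_full : (toOverSpace g).Full where
  map_surjective {F F'} m := by
    let α : ext g F.obj ⟶ ext g F'.obj := m.left.hom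
    have hα : α ≫ proj g F'.obj = proj g F.obj := congrArg (fun k => k.hom) (Over.w m)
    let β : F.obj ⟶ F'.obj := (isPullback_unit g F'.obj).lift (toRestr α) (toPt F.obj) (by
      have : toRestr α ≫ (jinv g).map (proj g F'.obj) = toRestr (α ≫ proj g F'.obj) := rfl
      rw [this, hα]
      ext T x
      rfl)
    refine ⟨ObjectProperty.homMk β, Over.OverMorphism.ext (InducedCategory.hom_ext ((extEquiv _ _).injective ?_))⟩
    change toRestr (extMap β) = toRestr α
    have e : toRestr (extMap β) = β ≫ toRestr (𝟙 (ext g F'.obj)) := by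
      ext T x
      exact congrArg (Sec.mk _) (congr($(β.hom.naturality _) x))
    rw [e]
    exact IsPullback.lift_fst ..

instance toOverSpace_essSurj : (toOverSpace g).EssSurj where
  mem_essImage A := by
    let H := A.left.obj
    let π : H ⟶ (yon S').obj (Over.mk g) := A.hom.hom
    have sq := IsPullback.of_hasPullback ((jinv g).map π) (sect g)
    let F : AlgSp.Space S := ⟨_, isAlgSpace_fibre sq A.left.property⟩
    have := isIso_ofRestr sq
    refine ⟨F, ⟨Over.isoMk (ObjectProperty.isoMk _ (asIso (ofRestr (pullback.fst ((jinv g).map π) (sect g))))) ?_⟩⟩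
    exact InducedCategory.hom_ext (ofRestr_π sq)

instance toOverSpace_isEquivalence : (toOverSpace g).IsEquivalence where

end Groth.Agent.Lib.Restrict
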