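import Groth.Agent.Lib.Restrict.Extend
import Groth.Agent.Lib.AlgSpace.Diag

/-!
# Restriction and extension of algebraic spaces
-/

set_option autoImplicit false
set_option backward.isDefEq.respectTransparency false
set_option backward.isDefEq.respectTransparency.types false

universe u

open CategoryTheory CategoryTheory.Limits AlgebraicGeometry Opposite

namespace Groth.Agent.Lib.Restrict

open AlgSp (Sp yon Representable RepWith IsAlgSpace)
open Groth.Agent.Lib.AlgSpace

variable {S S' : Scheme.{u}} (g : S ⟶ S')

/-- The restriction of a scheme is its base change. -/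
noncomputable def jinvYonRep (X' : Over S') :
    ((jinv g).obj ((yon S').obj X')).obj.RepresentableBy ((Over.pullback g).obj X') where
  homEquiv {T} := ((Over.mapPullbackAdj g).homEquiv T X').symm.trans Equiv.ulift.symm
  homEquiv_comp {T T'} h k := congrArg ULift.up ((Over.mapPullbackAdj g).homEquiv_naturality_left_symm h k)

/-- The restriction of a scheme. -/
noncomputable def jinvYon (X' : Over S') : (yon S).obj ((Over.pullback g).obj X') ≅ (jinv g).obj ((yon S').obj X') :=
  AlgSp.isoOfRepresentableBy (jinvYonRep g X')

variable {g}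

/-- Points of the restriction. -/
noncomputable def adjT {H : Sp S'} {T : Over S} :
    ((yon S).obj T ⟶ (jinv g).obj H) ≃ ((yon S').obj ((Over.map g).obj T) ⟶ H) :=
  (secEquiv T).trans (secEquiv (F := H) ((Over.map g).obj T)).symm

theorem adjT_comp {H H' : Sp S'} {T : Over S} (a : (yon S).obj T ⟶ (jinv g).obj H) (f : H ⟶ H') :
    adjT (a ≫ (jinv g).map f) = adjT a ≫ f :=
  (secEquiv_symm_comp (F := H) (T := (Over.map g).obj T) (secEquiv T a) f).symm

theorem adjT_map {H : Sp S'} {T T' : Over S} (m : T' ⟶ T) (a : (yon S).obj T ⟶ (jinv g).obj H) :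
    adjT ((yon S).map m ≫ a) = (yon S').map ((Over.map g).map m) ≫ adjT a := by
  refine ((congrArg (secEquiv (F := H) ((Over.map g).obj T')).symm (secEquiv_map m a)).trans ?_)
  exact (yon_map_comp_secEquiv_symm ((Over.map g).map m) (secEquiv T a)).symm

/-- Restriction preserves representable properties. -/
theorem repWith_jinv {P : MorphismProperty Scheme.{u}} [P.IsStableUnderBaseChange] {F G : Sp S'} {f : F ⟶ G}
    (hf : RepWith P f) : RepWith P ((jinv g).map f) := by
  refine repWith_of_exists fun U ξ => ?_
  obtain ⟨V, v, fst, sq, hP⟩ := repWith_exists hf (adjT ξ)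
  have wv : v.left ≫ U.hom ≫ g = V.hom := Over.w v
  let V₀ : Over S := Over.mk (v.left ≫ U.hom)
  let i : (Over.map g).obj V₀ ⟶ V := Over.homMk (𝟙 _) (by
    change 𝟙 _ ≫ V.hom = (v.left ≫ U.hom) ≫ g
    rw [Category.id_comp, Category.assoc, wv])
  let v₀ : V₀ ⟶ U := Over.homMk v.left rfl
  have hv : (Over.map g).map v₀ = i ≫ v := Over.OverMorphism.ext (Category.id_comp _).symm
  refine ⟨V₀, v₀, adjT.symm ((yon S').map i ≫ fst), isPullback_of_yon ?_ (fun T c c' h₁ h₂ => ?_)
    (fun T a b h => ?_), hP⟩
  · apply adjT.injective
    rw [adjT_comp, Equiv.apply_symm_apply, adjT_map, hv, Functor.map_comp, Category.assoc, Category.assoc, sq.w]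
  · obtain ⟨c, rfl⟩ := (yon S).map_surjective c
    obtain ⟨c', rfl⟩ := (yon S).map_surjective c'
    have e₁ := congrArg adjT h₁
    rw [adjT_map, adjT_map, Equiv.apply_symm_apply, ← Category.assoc, ← Category.assoc, ← Functor.map_comp,
      ← Functor.map_comp] at e₁
    rw [← Functor.map_comp, ← Functor.map_comp] at h₂
    have e₂ := congrArg (Over.map g).map ((yon S).map_injective h₂)
    rw [Functor.map_comp, Functor.map_comp, hv] at e₂
    have e := (yon S').map_injective (sq.hom_ext e₁ (by
      rw [← Functor.map_comp, ← Functor.map_comp, Category.assoc, Category.assoc, e₂]))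
    have := congrArg (fun m => m.left) e
    exact congrArg (yon S).map (Over.OverMorphism.ext ((Category.comp_id c.left).symm.trans
      (this.trans (Category.comp_id c'.left))))
  · obtain ⟨b, rfl⟩ := (yon S).map_surjective b
    have e := congrArg adjT h
    rw [adjT_comp, adjT_map] at e
    obtain ⟨c, hc⟩ := (yon S').map_surjective (sq.lift _ _ e)
    have h2 : (yon S').map c ≫ (yon S').map v = (yon S').map ((Over.map g).map b) := by rw [hc, sq.lift_snd]
    have hcv : c.left ≫ v.left = b.left :=
      congrArg (fun m => m.left) ((yon S').map_injective ((Functor.map_comp _ _ _).trans h2))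
    let c₀ : T ⟶ V₀ := Over.homMk c.left (by
      change c.left ≫ v.left ≫ U.hom = T.hom
      rw [← Category.assoc, hcv, Over.w b])
    have hc₀ : (Over.map g).map c₀ ≫ i = c := Over.OverMorphism.ext (Category.comp_id _)
    refine ⟨(yon S).map c₀, adjT.injective ?_, ?_⟩
    · rw [adjT_map, Equiv.apply_symm_apply, ← Category.assoc, ← Functor.map_comp, hc₀, hc, sq.lift_fst]
    · rw [← Functor.map_comp]
      exact congrArg _ (Over.OverMorphism.ext hcv)

/-- Restriction preserves representability. -/
theorem representable_jinv {F G : Sp S'} {f : F ⟶ G} (hf : Representable f) : Representable ((jinv g).map f) := by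
  have h : RepWith ⊤ f := ⟨hf, fun _ _ _ _ _ _ => trivial⟩
  exact (repWith_jinv (g := g) h).rep

/-- Restriction of an algebraic space. -/
theorem isAlgSpace_jinv {F' : Sp S'} (h : IsAlgSpace F') : IsAlgSpace ((jinv g).obj F') where
  diag := Functor.relativelyRepresentable.diag_of_map_from_obj fun U a => by
    let η : U ⟶ (Over.pullback g).obj ((Over.map g).obj U) := (Over.mapPullbackAdj g).unit.app U
    have e : a = ((yon S).map η ≫ (jinvYon g _).hom) ≫ (jinv g).map (adjT a) := by
      apply adjT.injective
      rw [adjT_comp]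
      have : adjT ((yon S).map η ≫ (jinvYon g ((Over.map g).obj U)).hom) = 𝟙 _ := by
        apply (secEquiv _).injective
        refine ((secEquiv (F := (yon S').obj ((Over.map g).obj U)) ((Over.map g).obj U)).apply_symm_apply _).trans ?_
        rw [secEquiv_map]
        have h1 : secEquiv ((Over.map g).obj U) (𝟙 ((yon S').obj ((Over.map g).obj U))) = ULift.up (𝟙 _) := rfl
        rw [h1]
        refine (congrArg _ (show secEquiv _ (jinvYon g _).hom = ULift.up _ from rfl)).trans ?_
        refine congrArg ULift.up ?_
        change (Over.map g).map η ≫ ((Over.mapPullbackAdj g).homEquiv _ _).symm (𝟙 _) = _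
        rw [← Adjunction.homEquiv_naturality_left_symm, Category.comp_id]
        exact ((Over.mapPullbackAdj g).homEquiv U _).symm_apply_eq.2 ((Over.mapPullbackAdj g).homEquiv_id _).symm
      rw [this, Category.id_comp]
    rw [e]
    exact Representable.comp_mem _ _ (MorphismProperty.RespectsIso.postcomp _ _ _ (AlgSp.representable_yon_map η))
      (representable_jinv (h.representable_from_yon _))
  atlas := by
    obtain ⟨U, p, he, hs⟩ := h.atlas
    exact ⟨_, (jinvYon g U).hom ≫ (jinv g).map p, MorphismProperty.RespectsIso.precomp _ _ _ (repWith_jinv he),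
      MorphismProperty.RespectsIso.precomp _ _ _ (repWith_jinv hs)⟩

variable (g)

/-- The extension of a scheme. -/
noncomputable def extYonRep (X : Over S) : (ext g ((yon S).obj X)).obj.RepresentableBy ((Over.map g).obj X) where
  homEquiv {T} :=
    { toFun := fun h => (⟨h ≫ str g X, ULift.up (Over.homMk h.left rfl)⟩ : Sec g ((yon S).obj X) T)
      invFun := fun (s : Sec g ((yon S).obj X) T) => Over.homMk s.x.down.left (by
        change s.x.down.left ≫ X.hom ≫ g = T.hom
        rw [← Category.assoc, Over.w s.x.down]
        exact Over.w s.φ)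
      left_inv := fun h => Over.OverMorphism.ext rfl
      right_inv := fun (s : Sec g ((yon S).obj X) T) => Sec.ext'
        (Over.OverMorphism.ext (Over.w s.x.down)) fun V a w => congrArg ULift.up (Over.OverMorphism.ext rfl) }
  homEquiv_comp {T T'} h k := by
    refine Sec.ext' (Category.assoc _ _ _) fun V a w => ?_
    change _ = (Sec.restr _ h).ev a _
    rw [Sec.ev_restr]
    exact congrArg ULift.up (Over.OverMorphism.ext (Category.assoc a h.left k.left).symm)

/-- The extension of a scheme. -/
noncomputable def extYon (X : Over S) : (yon S').obj ((Over.map g).obj X) ≅ ext g ((yon S).obj X) :=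
  AlgSp.isoOfRepresentableBy (extYonRep g X)

variable {g}

/-- Extension preserves representable properties. -/
theorem repWith_extMap {P : MorphismProperty Scheme.{u}} [P.IsStableUnderBaseChange] {F G : Sp S} {f : F ⟶ G}
    (hf : RepWith P f) : RepWith P (extMap (g := g) f) := by
  refine repWith_of_exists fun U ξ => ?_
  let s : Sec g G U := secEquiv U ξ
  obtain ⟨V, v, fst, sq, hP⟩ := repWith_exists hf ((secEquiv _).symm s.x)
  have wv : v.left ≫ s.φ.left = V.hom := Over.w v
  let i : (Over.map g).obj V ⟶ U := Over.homMk v.left (by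
    change v.left ≫ U.hom = V.hom ≫ g
    rw [← wv, Category.assoc]
    exact congrArg _ (Over.w s.φ).symm)
  let t : Sec g F ((Over.map g).obj V) := ⟨str g V, secEquiv V fst⟩
  have hft : f.hom.app _ (secEquiv V fst) = G.obj.map v.op s.x := by
    rw [← secEquiv_comp, sq.w, secEquiv_map, Equiv.apply_symm_apply]
  have key : ∀ {W : Over S} (m : W ⟶ Over.mk s.φ.left), s.ev m.left (Over.w m) = G.obj.map m.op s.x :=
    fun m => rfl
  refine ⟨(Over.map g).obj V, i, (secEquiv _).symm t, isPullback_of_yon ?_ (fun T c c' h₁ h₂ => ?_)
    (fun T a b h => ?_), hP⟩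
  · apply (secEquiv _).injective
    rw [secEquiv_comp, Equiv.apply_symm_apply, secEquiv_map]
    refine Sec.ext' (t := s.restr i) (Over.OverMorphism.ext wv.symm) fun W a w => ?_
    rw [Sec.ev_restr]
    change G.obj.map _ (f.hom.app _ (secEquiv V fst)) = _
    rw [hft]
    change (G.obj.map _ ≫ G.obj.map _) s.x = G.obj.map _ s.x
    rw [← Functor.map_comp]
    rfl
  · obtain ⟨c, rfl⟩ := (yon S').map_surjective c
    obtain ⟨c', rfl⟩ := (yon S').map_surjective c'
    have e₁ := congrArg (secEquiv T) h₁
    rw [secEquiv_map, secEquiv_map, Equiv.apply_symm_apply] at e₁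
    change t.restr c = t.restr c' at e₁
    rw [← Functor.map_comp, ← Functor.map_comp] at h₂
    have e₂ : c.left ≫ v.left = c'.left ≫ v.left := congrArg (fun m => m.left) ((yon S').map_injective h₂)
    let ψ : T.left ⟶ S := c.left ≫ V.hom
    have hψ : c'.left ≫ V.hom = ψ := (congrArg (fun r : Sec g F T => r.φ.left) e₁).symm
    let d : Over.mk ψ ⟶ V := Over.homMk c.left rfl
    let d' : Over.mk ψ ⟶ V := Over.homMk c'.left hψ
    have e₃ : F.obj.map d.op (secEquiv V fst) = F.obj.map d'.op (secEquiv V fst) := by
      have h := Sec.congr_ev e₁ (V := Over.mk ψ) (𝟙 _) (Category.id_comp _)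
      rw [Sec.ev_restr, Sec.ev_restr] at h
      refine Eq.trans ?_ (h.trans ?_)
      · exact congrArg (fun m : Over.mk ψ ⟶ Over.mk V.hom => F.obj.map m.op _)
          (Over.OverMorphism.ext (Category.id_comp c.left).symm)
      · exact congrArg (fun m : Over.mk ψ ⟶ Over.mk V.hom => F.obj.map m.op _)
          (Over.OverMorphism.ext (Category.id_comp c'.left))
    have e : (yon S).map d = (yon S).map d' := sq.hom_ext
      ((secEquiv _).injective (by rw [secEquiv_map, secEquiv_map, e₃]))
      (by rw [← Functor.map_comp, ← Functor.map_comp]; exact congrArg _ (Over.OverMorphism.ext e₂))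
    exact congrArg (yon S').map (Over.OverMorphism.ext (congrArg (fun m => m.left) ((yon S).map_injective e) :))
  · obtain ⟨b, rfl⟩ := (yon S').map_surjective b
    let r : Sec g F T := secEquiv T a
    have e := congrArg (secEquiv T) h
    rw [secEquiv_comp, secEquiv_map] at e
    change (⟨r.φ, f.hom.app _ r.x⟩ : Sec g G T) = s.restr b at e
    have hb : b.left ≫ s.φ.left = r.φ.left := (congrArg (fun r : Sec g G T => r.φ.left) e).symm
    let β : Over.mk r.φ.left ⟶ Over.mk s.φ.left := Over.homMk b.left hb
    have e' : f.hom.app _ r.x = G.obj.map β.op s.x := by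
      have h := Sec.congr_ev e (V := Over.mk r.φ.left) (𝟙 _) (Category.id_comp _)
      rw [Sec.ev_restr] at h
      exact ((Sec.ev_id (⟨r.φ, f.hom.app _ r.x⟩ : Sec g G T)).symm.trans h).trans (congrArg (fun m : Over.mk r.φ.left ⟶ Over.mk s.φ.left => G.obj.map m.op s.x)
        (Over.OverMorphism.ext (Category.id_comp _)))
    obtain ⟨d, hd⟩ := (yon S).map_surjective (sq.lift ((secEquiv _).symm r.x) ((yon S).map β) (by
      rw [secEquiv_symm_comp, yon_map_comp_secEquiv_symm, e']))
    have hdv : d.left ≫ v.left = b.left := congrArg (fun m => m.left) ((yon S).map_injective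
      ((Functor.map_comp _ _ _).trans (show (yon S).map d ≫ (yon S).map v = (yon S).map β by rw [hd, sq.lift_snd])))
    let c : T ⟶ (Over.map g).obj V := Over.homMk d.left (by
      change d.left ≫ V.hom ≫ g = T.hom
      rw [← Category.assoc, Over.w d]
      exact Over.w r.φ)
    have hdf : F.obj.map d.op (secEquiv V fst) = r.x := by
      rw [← secEquiv_map, hd, sq.lift_fst, Equiv.apply_symm_apply]
    refine ⟨(yon S').map c, (secEquiv T).injective ?_, ?_⟩
    · rw [secEquiv_map, Equiv.apply_symm_apply]
      refine Sec.ext' (s := t.restr c) (t := r) (Over.OverMorphism.ext (Over.w d)) fun W a' w => ?_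
      rw [Sec.ev_restr]
      change _ = F.obj.map _ r.x
      rw [← hdf]
      change _ = (F.obj.map _ ≫ F.obj.map _) _
      rw [← Functor.map_comp]
      rfl
    · rw [← Functor.map_comp]
      exact congrArg _ (Over.OverMorphism.ext hdv)

/-- Extension preserves representability. -/
theorem representable_extMap {F G : Sp S} {f : F ⟶ G} (hf : Representable f) :
    Representable (extMap (g := g) f) := by
  have h : RepWith ⊤ f := ⟨hf, fun _ _ _ _ _ _ => trivial⟩
  exact (repWith_extMap (g := g) h).rep

/-- Extension of an algebraic space. -/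
theorem isAlgSpace_ext {F : Sp S} (h : IsAlgSpace F) : IsAlgSpace (ext g F) where
  diag := Functor.relativelyRepresentable.diag_of_map_from_obj fun T a => by
    let s : Sec g F T := secEquiv T a
    let e : T ⟶ (Over.map g).obj (Over.mk s.φ.left) := Over.homMk (𝟙 _) (by
      change 𝟙 _ ≫ s.φ.left ≫ g = T.hom
      rw [Category.id_comp]
      exact Over.w s.φ)
    have ha : a = ((yon S').map e ≫ (extYon g _).hom) ≫ extMap ((secEquiv _).symm s.x) := by
      apply (secEquiv T).injective
      rw [secEquiv_comp, secEquiv_map]
      change s = _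
      refine (Sec.ext' (Over.OverMorphism.ext ?_) fun V a' w => ?_)
      · exact (Category.id_comp _).symm.trans (congrArg (_ ≫ ·) (Category.id_comp _).symm)
      · change s.ev a' w = F.obj.map _ (((secEquiv _).symm s.x).hom.app _ _)
        change F.obj.map _ s.x = F.obj.map _ (F.obj.map _ s.x)
        change _ = (F.obj.map _ ≫ F.obj.map _) s.x
        rw [← Functor.map_comp]
        congr 3
    rw [ha]
    exact Representable.comp_mem _ _
      (MorphismProperty.RespectsIso.postcomp _ _ _ (AlgSp.representable_yon_map e))
      (representable_extMap (h.representable_from_yon _))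
  atlas := by
    obtain ⟨U, p, he, hs⟩ := h.atlas
    exact ⟨_, (extYon g U).hom ≫ extMap p, MorphismProperty.RespectsIso.precomp _ _ _ (repWith_extMap he),
      MorphismProperty.RespectsIso.precomp _ _ _ (repWith_extMap hs)⟩

end Groth.Agent.Lib.Restrict
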