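import Groth.Agent.Lib.AlgSpace.Basic
import Mathlib.CategoryTheory.Sites.Over
import Mathlib.CategoryTheory.Sites.Pullback

/-!
# Restriction of sheaves along a morphism of base schemes and its left adjoint
-/

set_option autoImplicit false
set_option backward.isDefEq.respectTransparency false
set_option backward.isDefEq.respectTransparency.types false

universe u

open CategoryTheory CategoryTheory.Limits AlgebraicGeometry Opposite

namespace Groth.Agent.Lib.Restrict

open AlgSp (Sp yon)
open Groth.Agent.Lib.AlgSpace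

variable {S S' : Scheme.{u}} (g : S ⟶ S')

/-- Restriction along `g`. -/
abbrev jinv : Sp S' ⥤ Sp S := Scheme.fppfTopology.overMapPullback (Type (u + 1)) g

/-- Sections of the extension: a map to `S` and a section of `F`. -/
structure Sec (F : Sp S) (T : Over S') : Type (u + 1) where
  /-- the map to `S` -/
  φ : T ⟶ Over.mk g
  /-- the section -/
  x : F.obj.obj (op (Over.mk φ.left))

variable {g} {F G : Sp S}

/-- Evaluation of a section along a map over `S`. -/
noncomputable def Sec.ev {T : Over S'} (s : Sec g F T) {V : Over S} (a : V.left ⟶ T.left)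
    (w : a ≫ s.φ.left = V.hom) : F.obj.obj (op V) :=
  F.obj.map (Over.homMk a w : V ⟶ Over.mk s.φ.left).op s.x

theorem Sec.map_ev {T : Over S'} (s : Sec g F T) {V V' : Over S} (m : V' ⟶ V) (a : V.left ⟶ T.left)
    (w : a ≫ s.φ.left = V.hom) :
    F.obj.map m.op (s.ev a w) = s.ev (m.left ≫ a) (by rw [Category.assoc, w, Over.w]) := by
  change (F.obj.map _ ≫ F.obj.map _) s.x = _
  rw [← Functor.map_comp]
  rfl

theorem Sec.ev_id {T : Over S'} (s : Sec g F T) :
    s.ev (V := Over.mk s.φ.left) (𝟙 T.left) (Category.id_comp _) = s.x := by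
  rw [Sec.ev, show (Over.homMk (𝟙 T.left) (Category.id_comp _) : Over.mk s.φ.left ⟶ Over.mk s.φ.left) = 𝟙 _ from rfl,
    op_id, CategoryTheory.Functor.map_id]
  rfl

theorem Sec.congr_ev {T : Over S'} {s t : Sec g F T} (h : s = t) {V : Over S} (a : V.left ⟶ T.left)
    (w : a ≫ s.φ.left = V.hom) : s.ev a w = t.ev a (h ▸ w) := by
  subst h; rfl

theorem Sec.congr_ev' {T : Over S'} (s : Sec g F T) {V : Over S} {a b : V.left ⟶ T.left} (h : a = b)
    (w : a ≫ s.φ.left = V.hom) : s.ev a w = s.ev b (h ▸ w) := by
  subst h; rfl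

theorem Sec.ext' {T : Over S'} {s t : Sec g F T} (h : s.φ = t.φ)
    (h' : ∀ (V : Over S) (a : V.left ⟶ T.left) (w : a ≫ s.φ.left = V.hom), s.ev a w = t.ev a (h ▸ w)) :
    s = t := by
  have e := h' (Over.mk s.φ.left) (𝟙 _) (Category.id_comp _)
  obtain ⟨φ, x⟩ := s
  obtain ⟨ψ, y⟩ := t
  obtain rfl : φ = ψ := h
  exact congrArg _ ((Sec.ev_id ⟨φ, x⟩).symm.trans (e.trans (Sec.ev_id ⟨φ, y⟩)))

/-- Restriction of sections. -/
noncomputable def Sec.restr {T T' : Over S'} (s : Sec g F T) (h : T' ⟶ T) : Sec g F T' where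
  φ := h ≫ s.φ
  x := s.ev (V := Over.mk (h ≫ s.φ).left) h.left rfl

theorem Sec.ev_restr {T T' : Over S'} (s : Sec g F T) (h : T' ⟶ T) {V : Over S} (a : V.left ⟶ T'.left)
    (w : a ≫ (s.restr h).φ.left = V.hom) :
    (s.restr h).ev a w = s.ev (a ≫ h.left) (by rw [Category.assoc]; exact w) :=
  s.map_ev (Over.homMk a w : V ⟶ Over.mk (h ≫ s.φ).left) h.left rfl

variable (g)

/-- The extension as a presheaf. -/
noncomputable def extPsh (F : Sp S) : ((Over S')ᵒᵖ ⥤ Type (u + 1)) where
  obj T := Sec g F T.unop
  map h := ↾fun s => s.restr h.unop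
  map_id T := by
    ext s
    refine Sec.ext' (Category.id_comp _) fun V a w => ?_
    exact (s.ev_restr _ a w).trans (s.congr_ev' (Category.comp_id a) _)
  map_comp h k := by
    ext s
    refine Sec.ext' (Category.assoc _ _ _) fun V a w => ?_
    change (s.restr (k.unop ≫ h.unop)).ev a w = ((s.restr h.unop).restr k.unop).ev a _
    rw [s.ev_restr, Sec.ev_restr, Sec.ev_restr]
    exact s.congr_ev' (Category.assoc _ _ _).symm _

theorem isSheaf_extPsh (F : Sp S) : Presheaf.IsSheaf (AlgSp.J S') (extPsh g F) := by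
  rw [isSheaf_iff_isSheaf_of_type]
  intro T R hR x hx
  have hy : Presieve.IsSheaf (AlgSp.J S') (yoneda.obj (Over.mk g)) :=
    GrothendieckTopology.Subcanonical.isSheaf_of_isRepresentable _
  let φs : Presieve.FamilyOfElements (yoneda.obj (Over.mk g)) R.arrows := fun Y h hh => (show Sec g F Y from x h hh).φ
  have hφs : φs.Compatible := fun Y₁ Y₂ Z g₁ g₂ f₁ f₂ h₁ h₂ e => congrArg Sec.φ (hx g₁ g₂ h₁ h₂ e)
  obtain ⟨φ, hφ, huniq⟩ := hy R hR φs hφs
  let k : ∀ {V : Over S}, (V ⟶ Over.mk φ.left) → ((Over.map g).obj V ⟶ T) := fun {V} h =>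
    Over.homMk h.left (by
      have h1 : φ.left ≫ g = T.hom := Over.w φ
      have h2 : h.left ≫ φ.left = V.hom := Over.w h
      change h.left ≫ T.hom = V.hom ≫ g
      rw [← h1, ← Category.assoc, h2])
  let R' : Sieve (Over.mk φ.left) :=
    { arrows := fun {V} h => R (k h)
      downward_closed := fun {V V' h} hh m => by
        have e : k (m ≫ h) = (Over.map g).map m ≫ k h := Over.OverMorphism.ext rfl
        change R (k (m ≫ h))
        rw [e]
        exact R.downward_closed hh _ }
  have hR' : R' ∈ AlgSp.J S (Over.mk φ.left) := by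
    change Sieve.overEquiv _ R' ∈ Scheme.fppfTopology _
    have e : Sieve.overEquiv (Over.mk φ.left) R' = (Sieve.overEquiv T R : Sieve T.left) := by
      ext Z f
      rw [Sieve.overEquiv_iff, Sieve.overEquiv_iff]
      have hw : f ≫ T.hom = (f ≫ φ.left) ≫ g := by rw [Category.assoc]; exact congrArg _ (Over.w φ).symm
      constructor
      · intro h
        have := R.downward_closed h (Over.homMk (𝟙 Z) (by simp [hw]) :
          Over.mk (f ≫ T.hom) ⟶ (Over.map g).obj (Over.mk (f ≫ φ.left)))
        have e : ∀ (q r : Over.mk (f ≫ T.hom) ⟶ T), q.left = r.left → R q → R r := fun q r e hq => Over.OverMorphism.ext e ▸ hq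
        exact e _ _ (Category.id_comp _) this
      · intro h
        have := R.downward_closed h (Over.homMk (𝟙 Z) (by simp [hw]) :
          (Over.map g).obj (Over.mk (f ≫ φ.left)) ⟶ Over.mk (f ≫ T.hom))
        change R _
        have e : ∀ (q r : (Over.map g).obj (Over.mk (f ≫ φ.left)) ⟶ T), q.left = r.left → R q → R r :=
          fun q r e hq => Over.OverMorphism.ext e ▸ hq
        exact e _ _ (Category.id_comp _) this
    rw [e]
    exact hR
  have hF : Presieve.IsSheaf (AlgSp.J S) F.obj := (isSheaf_iff_isSheaf_of_type _ _).1 F.property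
  let y : Presieve.FamilyOfElements F.obj R'.arrows := fun V h hh =>
    (show Sec g F _ from x (k h) hh).ev (𝟙 _) (by
      have := congrArg (fun m => m.left) (hφ (k h) hh)
      refine (Category.id_comp _).trans (this.symm.trans ?_)
      exact Over.w h)
  have hy' : ∀ {V V' : Over S} (m : V' ⟶ V) (h : V ⟶ Over.mk φ.left) (hh : R' h),
      F.obj.map m.op (y h hh) = y (m ≫ h) (R'.downward_closed hh m) := fun {V V'} m h hh => by
    have hkm : k (m ≫ h) = (Over.map g).map m ≫ k h := Over.OverMorphism.ext rfl
    have hx' := (Presieve.compatible_iff_sieveCompatible x).1 hx (k h) ((Over.map g).map m) hh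
    have : ∀ (q : (Over.map g).obj V' ⟶ T) (hq : R q), q = k (m ≫ h) →
        ∀ (w : 𝟙 _ ≫ (show Sec g F _ from x q hq).φ.left = V'.hom),
          (show Sec g F _ from x q hq).ev (V := V') (𝟙 _) w = y (m ≫ h) (R'.downward_closed hh m) := by
      rintro q hq rfl w; rfl
    rw [← this _ _ hkm.symm (by
      rw [hx']
      refine (Category.id_comp _).trans ?_
      change m.left ≫ (show Sec g F _ from x (k h) hh).φ.left = _
      have := congrArg (fun m => m.left) (hφ (k h) hh)
      exact (congrArg (m.left ≫ ·) (this.symm.trans (Over.w h))).trans (Over.w m)), Sec.congr_ev hx']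
    change _ = ((show Sec g F _ from x (k h) hh).restr ((Over.map g).map m)).ev _ _
    rw [Sec.ev_restr]
    refine (Sec.map_ev _ _ _ _).trans (Sec.congr_ev' _ ?_ _)
    exact (Category.comp_id _).trans (Category.id_comp _).symm
  obtain ⟨z, hz, hzuniq⟩ := hF R' hR' y ((Presieve.compatible_iff_sieveCompatible y).2
    fun V V' h m hh => (hy' m h hh).symm)
  have hev : ∀ {Y : Over S'} (h : Y ⟶ T) (hh : R h) {V : Over S} (a : V.left ⟶ Y.left)
      (w : a ≫ (show Sec g F _ from x h hh).φ.left = V.hom) (k' : V ⟶ Over.mk φ.left) (hk' : k'.left = a ≫ h.left),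
      ∃ hk : R' k', (show Sec g F _ from x h hh).ev a w = y k' hk := fun {Y} h hh {V} a w k' hk' => by
    have wY : (show Sec g F _ from x h hh).φ.left ≫ g = Y.hom := Over.w (show Sec g F _ from x h hh).φ
    let m : (Over.map g).obj V ⟶ Y := Over.homMk a (by
      change a ≫ Y.hom = V.hom ≫ g
      rw [← wY, ← Category.assoc, w])
    have hm : k k' = m ≫ h := Over.OverMorphism.ext hk'
    have hk : R' k' := by
      change R (k k')
      rw [hm]
      exact R.downward_closed hh m
    refine ⟨hk, ?_⟩
    have hx' := (Presieve.compatible_iff_sieveCompatible x).1 hx h m hh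
    have : ∀ (q : (Over.map g).obj V ⟶ T) (hq : R q), q = k k' →
        ∀ (w' : 𝟙 _ ≫ (show Sec g F _ from x q hq).φ.left = V.hom),
          (show Sec g F _ from x q hq).ev (V := V) (𝟙 _) w' = y k' hk := by
      rintro q hq rfl w'; rfl
    rw [← this _ _ hm.symm (by rw [hx']; exact (Category.id_comp _).trans w), Sec.congr_ev hx']
    change _ = ((show Sec g F _ from x h hh).restr m).ev _ _
    rw [Sec.ev_restr]
    exact Sec.congr_ev' _ (Category.id_comp _).symm _
  refine ⟨⟨φ, z⟩, fun Y h hh => ?_, ?_⟩
  · refine Sec.ext' (hφ h hh) fun V a w => ?_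
    have w' : (a ≫ h.left) ≫ φ.left = V.hom := by rw [Category.assoc]; exact w
    obtain ⟨hk, e⟩ := hev h hh a (by
      have := congrArg (fun m => m.left) (hφ h hh)
      rw [← this]; exact w) (Over.homMk (a ≫ h.left) w') rfl
    refine (Sec.ev_restr (⟨φ, z⟩ : Sec g F T) h a w).trans ?_
    exact (hz _ hk).trans e.symm
  · rintro ⟨φ', z'⟩ h'
    obtain rfl : φ' = φ := huniq φ' fun Y h hh => congrArg Sec.φ (h' h hh)
    refine congrArg (Sec.mk φ') (hzuniq z' fun V h hh => ?_)
    change F.obj.map h.op z' = y h hh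
    have e : (⟨φ', z'⟩ : Sec g F T).restr (k h) = x (k h) hh := h' (k h) hh
    have w0 : 𝟙 _ ≫ (k h ≫ φ').left = V.hom := (Category.id_comp _).trans (Over.w h)
    refine Eq.trans ?_ (Sec.congr_ev e (𝟙 _) w0)
    rw [Sec.ev_restr]
    exact congrArg (fun (m : V ⟶ Over.mk φ'.left) => F.obj.map m.op z')
      (Over.OverMorphism.ext (Category.id_comp _).symm)

/-- The extension of a sheaf. -/
noncomputable def ext (F : Sp S) : Sp S' := ⟨extPsh g F, isSheaf_extPsh g F⟩

/-- The projection to `S`. -/
noncomputable def proj (F : Sp S) : ext g F ⟶ (yon S').obj (Over.mk g) :=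
  ObjectProperty.homMk
    { app := fun T => ↾fun s => ULift.up s.φ
      naturality := fun _ _ _ => rfl }

variable {g}

/-- The extension of a morphism. -/
noncomputable def extMap (β : F ⟶ G) : ext g F ⟶ ext g G :=
  ObjectProperty.homMk
    { app := fun T => ↾fun s => (⟨s.φ, β.hom.app _ s.x⟩ : Sec g G T.unop)
      naturality := fun T T' h => by
        ext s
        exact congrArg (Sec.mk (h.unop ≫ s.φ)) (congr($(β.hom.naturality
          (Over.homMk h.unop.left rfl : Over.mk (h.unop ≫ s.φ).left ⟶ Over.mk s.φ.left).op) s.x)) }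

variable (g)

/-- The extension functor. -/
noncomputable def extFunctor : Sp S ⥤ Sp S' where
  obj := ext g
  map := extMap
  map_id _ := rfl
  map_comp _ _ := rfl

/-- The canonical map to `S`. -/
abbrev str (T : Over S) : (Over.map g).obj T ⟶ Over.mk g := Over.homMk T.hom rfl

variable {g}

/-- A map from the extension, from a map to the restriction. -/
noncomputable def ofRestr {H : Sp S'} (β : F ⟶ (jinv g).obj H) : ext g F ⟶ H :=
  ObjectProperty.homMk
    { app := fun T => ↾fun s => H.obj.map (Over.homMk (𝟙 _) (by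
        change 𝟙 _ ≫ s.φ.left ≫ g = T.unop.hom
        rw [Category.id_comp]
        exact Over.w s.φ) : T.unop ⟶ (Over.map g).obj (Over.mk s.φ.left)).op (β.hom.app _ s.x)
      naturality := fun T T' h => by
        ext s
        let m : Over.mk (h.unop ≫ s.φ).left ⟶ Over.mk s.φ.left := Over.homMk h.unop.left rfl
        have e : β.hom.app _ (F.obj.map m.op s.x) = H.obj.map ((Over.map g).map m).op (β.hom.app _ s.x) :=
          congr($(β.hom.naturality m.op) s.x)
        change H.obj.map _ (β.hom.app _ (F.obj.map m.op s.x)) = H.obj.map h (H.obj.map _ (β.hom.app _ s.x))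
        rw [e]
        change (H.obj.map _ ≫ H.obj.map _) _ = (H.obj.map _ ≫ H.obj.map _) _
        rw [← Functor.map_comp, ← Functor.map_comp]
        congr 3 }

/-- A map to the restriction, from a map from the extension. -/
noncomputable def toRestr {H : Sp S'} (α : ext g F ⟶ H) : F ⟶ (jinv g).obj H :=
  ObjectProperty.homMk
    { app := fun T => ↾fun x => α.hom.app (op ((Over.map g).obj T.unop))
        (⟨str g T.unop, F.obj.map (Over.homMk (𝟙 _) (Category.id_comp _) : Over.mk T.unop.hom ⟶ T.unop).op x⟩ :
          Sec g F _)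
      naturality := fun T T' h => by
        ext x
        have e := fun s => congr($(α.hom.naturality ((Over.map g).map h.unop).op) s)
        refine Eq.trans ?_ (e _)
        change α.hom.app _ _ = α.hom.app _ (Sec.restr _ _)
        refine congrArg _ (Sec.ext' (Over.OverMorphism.ext (Over.w h.unop).symm) fun V a w => ?_)
        rw [Sec.ev_restr]
        change (F.obj.map _ ≫ F.obj.map _ ≫ F.obj.map _) x = (F.obj.map _ ≫ F.obj.map _) x
        rw [← Functor.map_comp, ← Functor.map_comp, ← Functor.map_comp]
        congr 3 }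

/-- The extension is left adjoint to restriction. -/
noncomputable def extEquiv (F : Sp S) (H : Sp S') : (ext g F ⟶ H) ≃ (F ⟶ (jinv g).obj H) where
  toFun := toRestr
  invFun := ofRestr
  left_inv α := by
    ext T s
    change H.obj.map _ (α.hom.app _ (Sec.mk _ _)) = α.hom.app _ s
    refine (congr($(α.hom.naturality _) _)).symm.trans (congrArg (α.hom.app T) ?_)
    refine Sec.ext' (Over.OverMorphism.ext (Category.id_comp _)) fun V a w => ?_
    change (Sec.restr _ _).ev a w = _
    rw [Sec.ev_restr]
    change (F.obj.map _ ≫ F.obj.map _) s.x = F.obj.map _ s.x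
    rw [← Functor.map_comp]
    congr 3
  right_inv β := by
    ext T x
    let m : Over.mk T.unop.hom ⟶ T.unop := Over.homMk (𝟙 _) (Category.id_comp _)
    change H.obj.map _ (β.hom.app _ (F.obj.map m.op x)) = _
    rw [show β.hom.app _ (F.obj.map m.op x) = H.obj.map ((Over.map g).map m).op (β.hom.app _ x) from
      congr($(β.hom.naturality m.op) x)]
    change (H.obj.map _ ≫ H.obj.map _) _ = _
    rw [← Functor.map_comp]
    refine (congrArg (fun f => H.obj.map f _) (show _ = 𝟙 _ from ?_)).trans ?_
    · exact Quiver.Hom.unop_inj (Over.OverMorphism.ext (Category.id_comp _))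
    · rw [CategoryTheory.Functor.map_id]; rfl

variable (g)

/-- The adjunction. -/
noncomputable def extAdj : extFunctor g ⊣ jinv g :=
  Adjunction.mkOfHomEquiv
    { homEquiv := extEquiv
      homEquiv_naturality_left_symm := fun {F F'} H β γ => by ext T s; rfl
      homEquiv_naturality_right := fun {F H H'} α δ => by ext T x; rfl }

/-- Mathlib's left adjoint of restriction is the extension. -/
noncomputable def extIso :
    (Over.map g).sheafPullback (Type (u + 1)) (AlgSp.J S) (AlgSp.J S') ≅ extFunctor g :=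
  Adjunction.leftAdjointUniq ((Over.map g).sheafAdjunctionContinuous (Type (u + 1)) (AlgSp.J S) (AlgSp.J S'))
    (extAdj g)

end Groth.Agent.Lib.Restrict
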